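import Mathlib

/-!
Azumaya algebras and their fibres: an algebra that is finite projective as a module is Azumaya
iff all fibres at maximal ideals are central simple algebras.
-/

set_option autoImplicit false

open TensorProduct MulOpposite

namespace Groth.Agent.Dix.Azumaya

/-- For a central simple algebra over a field the sandwich map is bijective. -/
theorem bijective_of_centralSimple (k A : Type*) [Field k] [Ring A] [Algebra k A]
    [Module.Finite k A] [Algebra.IsCentral k A] [IsSimpleRing A] :
    Function.Bijective (AlgHom.mulLeftRight k A) := by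
  let m := AlgHom.mulLeftRight k A
  letI : Module (A ⊗[k] Aᵐᵒᵖ) A := Module.compHom A m.toRingHom
  have hsmul : ∀ (r : A ⊗[k] Aᵐᵒᵖ) (x : A), r • x = m r x := fun r x => rfl
  have hnt : Nontrivial A := inferInstance
  haveI : IsSimpleModule (A ⊗[k] Aᵐᵒᵖ) A := by
    rw [isSimpleModule_iff]
    refine { toNontrivial := Submodule.nontrivial_iff _ |>.mpr hnt, eq_bot_or_eq_top := fun p => ?_ }
    let I : TwoSidedIdeal A := TwoSidedIdeal.mk' (p : Set A) p.zero_mem p.add_mem p.neg_mem
      (fun {x y} hy => by
        have := p.smul_mem (x ⊗ₜ[k] op (1 : A)) hy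
        rwa [hsmul, AlgHom.mulLeftRight_apply, unop_op, mul_one] at this)
      (fun {x y} hx => by
        have := p.smul_mem ((1 : A) ⊗ₜ[k] op y) hx
        rwa [hsmul, AlgHom.mulLeftRight_apply, unop_op, one_mul] at this)
    have hI : ∀ x, x ∈ I ↔ x ∈ p := fun x => TwoSidedIdeal.mem_mk' _ _ _ _ _ _ x
    rcases eq_bot_or_eq_top I with h | h
    · left
      ext x
      rw [← hI, h, TwoSidedIdeal.mem_bot, Submodule.mem_bot]
    · right
      ext x
      rw [← hI, h]
      simp
  have hcomm : ∀ (f : Module.End k A) (φ : Module.End (A ⊗[k] Aᵐᵒᵖ) A) (x : A),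
      f (φ x) = φ (f x) := by
    intro f φ x
    have h1 : ∀ y, φ y = y * φ 1 := fun y => by
      have := φ.map_smul (y ⊗ₜ[k] op (1 : A)) 1
      simpa [hsmul, m] using this
    have h2 : ∀ y, φ y = φ 1 * y := fun y => by
      have := φ.map_smul ((1 : A) ⊗ₜ[k] op y) 1
      simpa [hsmul, m] using this
    have hc : φ 1 ∈ Subalgebra.center k A :=
      Subalgebra.mem_center_iff.mpr fun b => by rw [← h1 b, h2 b]
    obtain ⟨c, hc⟩ := Algebra.mem_bot.mp (Algebra.IsCentral.out hc)
    rw [h2 x, h2 (f x), ← hc, ← Algebra.smul_def, ← Algebra.smul_def, map_smul]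
  have hk : ∀ (c : k) (r : A ⊗[k] Aᵐᵒᵖ) (x : A), r • (c • x) = c • (r • x) := fun c r x => by
    rw [hsmul, hsmul, map_smul]
  haveI : Module.Finite (Module.End (A ⊗[k] Aᵐᵒᵖ) A) A := by
    obtain ⟨s, hs⟩ := Module.Finite.fg_top (R := k) (M := A)
    refine ⟨⟨s, ?_⟩⟩
    rw [eq_top_iff]
    intro x _
    have hx : x ∈ Submodule.span k (s : Set A) := hs ▸ trivial
    clear ‹x ∈ (⊤ : Submodule (Module.End (A ⊗[k] Aᵐᵒᵖ) A) A)›
    induction hx using Submodule.span_induction with
    | mem y hy => exact Submodule.subset_span hy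
    | zero => exact zero_mem _
    | add a b _ _ ha hb => exact add_mem ha hb
    | smul c y _ hy =>
      let φ : Module.End (A ⊗[k] Aᵐᵒᵖ) A :=
        { toFun := fun z => c • z
          map_add' := fun a b => smul_add c a b
          map_smul' := fun r z => (hk c r z).symm }
      exact Submodule.smul_mem _ φ hy
  have hsurj : Function.Surjective m := fun f => by
    let F : Module.End (Module.End (A ⊗[k] Aᵐᵒᵖ) A) A :=
      { toFun := f
        map_add' := map_add f
        map_smul' := fun φ x => hcomm f φ x }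
    obtain ⟨r, hr⟩ := Module.Finite.toModuleEnd_moduleEnd_surjective
      (R := A ⊗[k] Aᵐᵒᵖ) (M := A) F
    exact ⟨r, LinearMap.ext fun x => LinearMap.congr_fun hr x⟩
  refine ⟨?_, hsurj⟩
  refine (LinearMap.injective_iff_surjective_of_finrank_eq_finrank (f := m.toLinearMap) ?_).mpr hsurj
  rw [Module.finrank_tensorProduct, ← (MulOpposite.opLinearEquiv k (M := A)).finrank_eq,
    Module.finrank_linearMap]

/-- An algebra over a field whose sandwich map is surjective is simple. -/
theorem isSimpleRing_of_surjective (k A : Type*) [Field k] [Ring A] [Algebra k A] [Nontrivial A]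
    (h : Function.Surjective (AlgHom.mulLeftRight k A)) : IsSimpleRing A := by
  refine IsSimpleRing.of_eq_bot_or_eq_top fun I => ?_
  by_cases hI : ∀ x ∈ I, x = (0 : A)
  · left
    ext x
    rw [TwoSidedIdeal.mem_bot]
    exact ⟨hI x, fun h => h ▸ I.zero_mem⟩
  · right
    push Not at hI
    obtain ⟨x, hx, hx0⟩ := hI
    obtain ⟨φ, hφ⟩ := (Module.Projective.exists_dual_ne_zero k hx0)
    ext y
    simp only [TwoSidedIdeal.mem_top, iff_true]
    obtain ⟨r, hr⟩ := h (LinearMap.smulRight φ ((φ x)⁻¹ • y))
    have hy : AlgHom.mulLeftRight k A r x = y := by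
      rw [hr, LinearMap.smulRight_apply, smul_smul, mul_inv_cancel₀ hφ, one_smul]
    rw [← hy]
    clear hy hr
    induction r using TensorProduct.induction_on with
    | zero => simp
    | tmul a b => simpa using I.mul_mem_right _ _ (I.mul_mem_left _ _ hx)
    | add a b ha hb => simpa using I.add_mem ha hb

section BaseChange

variable (R A S : Type*) [CommRing R] [Ring A] [Algebra R A] [CommRing S] [Algebra R S]

theorem exists_dual_basis [Module.Finite R A] [Module.Projective R A] :
    ∃ (n : ℕ) (x : Fin n → A) (g : Fin n → A →ₗ[R] R), ∀ a, ∑ i, g i a • x i = a := by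
  obtain ⟨n, f, g, -, -, hfg⟩ := Module.Finite.exists_comp_eq_id_of_projective R A
  refine ⟨n, fun i => f (Pi.single i 1), fun i => LinearMap.proj i ∘ₗ g, fun a => ?_⟩
  have h := LinearMap.congr_fun hfg a
  rw [LinearMap.comp_apply, LinearMap.id_apply] at h
  conv_rhs => rw [← h, pi_eq_sum_univ' (g a), map_sum]
  simp [map_smul]

theorem tensorProductEnd_tmul (s : S) (f : Module.End R A) :
    LinearMap.tensorProductEnd R S A (s ⊗ₜ[R] f) = s • f.baseChange S := rfl

theorem tensorProductEnd_bijective [Module.Finite R A] [Module.Projective R A] :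
    Function.Bijective (LinearMap.tensorProductEnd R S A) := by
  obtain ⟨n, x, g, hg⟩ := exists_dual_basis R A
  let T : Fin n → A →ₗ[R] Module.End R A := fun i => LinearMap.smulRightₗ (g i)
  let Ψ : Module.End S (S ⊗[R] A) →ₗ[S] S ⊗[R] Module.End R A :=
    ∑ i, (T i).baseChange S ∘ₗ LinearMap.applyₗ ((1 : S) ⊗ₜ[R] x i)
  have hΨ : ∀ F, Ψ F = ∑ i, (T i).baseChange S (F (1 ⊗ₜ[R] x i)) := fun F => by simp [Ψ]
  constructor
  · intro a b hab
    have key : ∀ ξ, Ψ (LinearMap.tensorProductEnd R S A ξ) = ξ := by
      intro ξ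
      induction ξ using TensorProduct.induction_on with
      | zero => simp
      | tmul s f =>
        rw [hΨ]
        have : ∀ i, (T i).baseChange S (LinearMap.tensorProductEnd R S A (s ⊗ₜ[R] f) (1 ⊗ₜ[R] x i))
            = s ⊗ₜ[R] ((g i).smulRight (f (x i))) := fun i => by
          rw [tensorProductEnd_tmul]; simp [T, TensorProduct.smul_tmul', LinearMap.smulRightₗ]
        simp only [this, ← TensorProduct.tmul_sum]
        congr 1
        ext a
        conv_rhs => rw [← hg a, map_sum]
        simp
      | add a b ha hb => rw [map_add, map_add, ha, hb]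
    rw [← key a, ← key b, hab]
  · intro F
    refine ⟨Ψ F, ?_⟩
    refine TensorProduct.AlgebraTensorModule.ext fun s a => ?_
    have key : ∀ i (y : S ⊗[R] A), LinearMap.tensorProductEnd R S A ((T i).baseChange S y)
        (s ⊗ₜ[R] a) = (g i a • s) • y := by
      intro i y
      induction y using TensorProduct.induction_on with
      | zero => simp
      | tmul t b =>
        rw [LinearMap.baseChange_tmul, tensorProductEnd_tmul]
        simp [T, LinearMap.smulRightₗ, TensorProduct.smul_tmul', TensorProduct.tmul_smul, mul_comm]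
      | add u v hu hv => rw [map_add, map_add, LinearMap.add_apply, hu, hv, smul_add]
    rw [hΨ]
    simp only [map_sum, LinearMap.sum_apply, key]
    have : s ⊗ₜ[R] a = ∑ i, (g i a • s) • ((1 : S) ⊗ₜ[R] x i) := by
      conv_lhs => rw [← hg a, TensorProduct.tmul_sum]
      refine Finset.sum_congr rfl fun i _ => ?_
      rw [TensorProduct.smul_tmul', TensorProduct.tmul_smul, smul_eq_mul, mul_one,
        TensorProduct.smul_tmul']
    conv_rhs => rw [this, map_sum]
    exact Finset.sum_congr rfl fun i _ => by rw [map_smul]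

theorem mulLeftRight_tmul (s t : S) (a b : A) :
    AlgHom.mulLeftRight S (S ⊗[R] A) ((s ⊗ₜ[R] a) ⊗ₜ[S] op (t ⊗ₜ[R] b)) =
      LinearMap.tensorProductEnd R S A ((s * t) ⊗ₜ[R] AlgHom.mulLeftRight R A (a ⊗ₜ[R] op b)) := by
  refine TensorProduct.AlgebraTensorModule.ext fun u x => ?_
  rw [tensorProductEnd_tmul]
  simp [TensorProduct.smul_tmul', mul_comm, mul_left_comm]

/-- the base change of the sandwich map -/
noncomputable abbrev bc : S ⊗[R] (A ⊗[R] Aᵐᵒᵖ) →ₗ[S] S ⊗[R] Module.End R A :=
  (AlgHom.mulLeftRight R A).toLinearMap.baseChange S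

theorem exists_eq_mulLeftRight (η : S ⊗[R] (A ⊗[R] Aᵐᵒᵖ)) :
    ∃ z, AlgHom.mulLeftRight S (S ⊗[R] A) z = LinearMap.tensorProductEnd R S A (bc R A S η) := by
  induction η using TensorProduct.induction_on with
  | zero => exact ⟨0, by simp⟩
  | add a b ha hb =>
    obtain ⟨⟨u, hu⟩, ⟨v, hv⟩⟩ := ha, hb
    exact ⟨u + v, by rw [map_add, map_add, map_add, hu, hv]⟩
  | tmul s w =>
    induction w using TensorProduct.induction_on with
    | zero => exact ⟨0, by simp⟩
    | add a b ha hb =>
      obtain ⟨⟨u, hu⟩, ⟨v, hv⟩⟩ := ha, hb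
      exact ⟨u + v, by rw [TensorProduct.tmul_add, map_add, map_add, map_add, hu, hv]⟩
    | tmul a b =>
      refine ⟨(s ⊗ₜ[R] a) ⊗ₜ[S] op ((1 : S) ⊗ₜ[R] b.unop), ?_⟩
      rw [mulLeftRight_tmul, mul_one, op_unop]
      rfl

theorem exists_eq_bc (z : (S ⊗[R] A) ⊗[S] (S ⊗[R] A)ᵐᵒᵖ) :
    ∃ η, LinearMap.tensorProductEnd R S A (bc R A S η) = AlgHom.mulLeftRight S (S ⊗[R] A) z := by
  induction z using TensorProduct.induction_on with
  | zero => exact ⟨0, by simp⟩
  | add a b ha hb =>
    obtain ⟨⟨u, hu⟩, ⟨v, hv⟩⟩ := ha, hb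
    exact ⟨u + v, by rw [map_add, map_add, map_add, hu, hv]⟩
  | tmul p q =>
    obtain ⟨q, rfl⟩ := op_surjective q
    induction p using TensorProduct.induction_on with
    | zero => exact ⟨0, by simp⟩
    | add a b ha hb =>
      obtain ⟨⟨u, hu⟩, ⟨v, hv⟩⟩ := ha, hb
      exact ⟨u + v, by rw [TensorProduct.add_tmul, map_add, map_add, map_add, hu, hv]⟩
    | tmul s a =>
      induction q using TensorProduct.induction_on with
      | zero => exact ⟨0, by simp⟩
      | add c d hc hd =>
        obtain ⟨⟨u, hu⟩, ⟨v, hv⟩⟩ := hc, hd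
        exact ⟨u + v, by rw [op_add, TensorProduct.tmul_add, map_add, map_add, map_add, hu, hv]⟩
      | tmul t b =>
        refine ⟨(s * t) ⊗ₜ[R] (a ⊗ₜ[R] op b), ?_⟩
        rw [mulLeftRight_tmul]
        rfl

variable [Module.Finite R A] [Module.Projective R A]

theorem surjective_mulLeftRight_of_bc (h : Function.Surjective (bc R A S)) :
    Function.Surjective (AlgHom.mulLeftRight S (S ⊗[R] A)) := by
  intro F
  obtain ⟨ξ, rfl⟩ := (tensorProductEnd_bijective R A S).surjective F
  obtain ⟨η, rfl⟩ := h ξ
  exact exists_eq_mulLeftRight R A S η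

theorem surjective_bc_of_mulLeftRight (h : Function.Surjective (AlgHom.mulLeftRight S (S ⊗[R] A))) :
    Function.Surjective (bc R A S) := by
  intro ξ
  obtain ⟨z, hz⟩ := h (LinearMap.tensorProductEnd R S A ξ)
  obtain ⟨η, hη⟩ := exists_eq_bc R A S z
  exact ⟨η, (tensorProductEnd_bijective R A S).injective (hη.trans hz)⟩

omit [CommRing S] [Algebra R S] in
theorem end_finite_projective :
    Module.Finite R (Module.End R A) ∧ Module.Projective R (Module.End R A) := by
  obtain ⟨n, x, g, hg⟩ := exists_dual_basis R A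
  let i : Module.End R A →ₗ[R] (Fin n × Fin n → R) :=
    LinearMap.pi fun p => g p.2 ∘ₗ LinearMap.applyₗ (x p.1)
  let s : (Fin n × Fin n → R) →ₗ[R] Module.End R A :=
    ∑ p : Fin n × Fin n, (LinearMap.proj p).smulRight ((g p.1).smulRight (x p.2))
  have h : s ∘ₗ i = LinearMap.id := LinearMap.ext fun f => LinearMap.ext fun a => by
    conv_rhs => rw [LinearMap.id_apply, ← hg a, map_sum]
    simp only [s, i, LinearMap.comp_apply, LinearMap.sum_apply, LinearMap.smulRight_apply,
      LinearMap.proj_apply, LinearMap.pi_apply, LinearMap.smul_apply, Fintype.sum_prod_type,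
      LinearMap.applyₗ_apply_apply]
    refine Finset.sum_congr rfl fun j _ => ?_
    conv_rhs => rw [map_smul, ← hg (f (x j)), Finset.smul_sum]
    exact Finset.sum_congr rfl fun l _ => smul_comm _ _ _
  exact ⟨Module.Finite.of_surjective s fun f => ⟨i f, LinearMap.congr_fun h f⟩,
    Module.Projective.of_split i s h⟩

end BaseChange

section Fibres

variable (R A K : Type*) [CommRing R] [Ring A] [Algebra R A] [Field K] [Algebra R K]
  [Module.Finite R A] [Module.Projective R A]

theorem bc_injective_of_surjective (h : Function.Surjective (bc R A K)) :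
    Function.Injective (bc R A K) := by
  haveI := (end_finite_projective R A).1
  refine (LinearMap.injective_iff_surjective_of_finrank_eq_finrank ?_).mpr h
  rw [(TensorProduct.AlgebraTensorModule.distribBaseChange R K A Aᵐᵒᵖ).finrank_eq,
    Module.finrank_tensorProduct,
    (LinearEquiv.baseChange R K A Aᵐᵒᵖ (MulOpposite.opLinearEquiv R)).finrank_eq.symm,
    (LinearEquiv.ofBijective (LinearMap.tensorProductEnd R K A).toLinearMap
      (tensorProductEnd_bijective R A K)).finrank_eq, Module.finrank_linearMap]

theorem fibre_centralSimple [IsAzumaya R A] [Nontrivial (K ⊗[R] A)] :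
    Algebra.IsCentral K (K ⊗[R] A) ∧ IsSimpleRing (K ⊗[R] A) := by
  have h1 : Function.Surjective (bc R A K) := by
    rw [← LinearMap.range_eq_top]
    have : Function.Surjective ((AlgHom.mulLeftRight R A).toLinearMap.lTensor K) :=
      LinearMap.lTensor_surjective K IsAzumaya.bij.surjective
    exact LinearMap.range_eq_top.mpr this
  have h2 := surjective_mulLeftRight_of_bc R A K h1
  haveI : FaithfulSMul K (K ⊗[R] A) :=
    (faithfulSMul_iff_algebraMap_injective _ _).mpr (RingHom.injective _)
  haveI : IsAzumaya K (K ⊗[R] A) :=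
    { bij := ⟨(LinearMap.injective_iff_surjective_of_finrank_eq_finrank
        (f := (AlgHom.mulLeftRight K (K ⊗[R] A)).toLinearMap) (by
          rw [Module.finrank_tensorProduct, ← (MulOpposite.opLinearEquiv K (M := K ⊗[R] A)).finrank_eq,
            Module.finrank_linearMap])).mpr h2, h2⟩ }
  exact ⟨inferInstance, isSimpleRing_of_surjective K _ h2⟩

end Fibres

section

variable (R A : Type*) [CommRing R] [Ring A] [Algebra R A] [Module.Finite R A] [Module.Projective R A]

theorem nontrivial_baseChange [FaithfulSMul R A] (p : Ideal R) [p.IsPrime]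
    : Nontrivial (p.ResidueField ⊗[R] A) := by
  rw [← Module.mem_support_iff_nontrivial_residueField_tensorProduct (R := R) (M := A)
      (⟨p, inferInstance⟩ : PrimeSpectrum R),
    Module.mem_support_iff_of_finite]
  intro r hr
  rw [Module.mem_annihilator] at hr
  have : r = 0 := FaithfulSMul.eq_of_smul_eq_smul (α := A) fun a => by rw [hr a, zero_smul]
  simp [this]

theorem eq_zero_of_forall_maximal {C : Type*} [AddCommGroup C] [Module R C] [Module.Finite R C]
    (h : ∀ (I : Ideal R), I.IsMaximal → ∀ c : C, (1 : R ⧸ I) ⊗ₜ[R] c = 0) (c : C) : c = 0 := by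
  have hann : Module.annihilator R C = ⊤ := by
    by_contra hne
    obtain ⟨I, hI, hle⟩ := Ideal.exists_le_maximal _ hne
    have htop : (⊤ : Submodule R C) ≤ I • ⊤ := fun x _ => by
      have := congrArg (TensorProduct.quotTensorEquivQuotSMul C I) (h I hI x)
      rw [map_zero, ← map_one (Ideal.Quotient.mk I),
        TensorProduct.quotTensorEquivQuotSMul_mk_tmul, one_smul,
        Submodule.Quotient.mk_eq_zero] at this
      exact this
    obtain ⟨r, hr, hr0⟩ := Submodule.exists_sub_one_mem_and_smul_eq_zero_of_fg_of_le_smul I ⊤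
      Module.Finite.fg_top htop
    have hrI : r ∈ I := hle (Module.mem_annihilator.mpr fun x => hr0 x trivial)
    exact hI.ne_top ((Ideal.eq_top_iff_one I).mpr (by simpa using I.sub_mem hrI hr))
  have := Module.mem_annihilator.mp (hann ▸ Submodule.mem_top : (1 : R) ∈ Module.annihilator R C) c
  simpa using this

/-- If every fibre at a maximal ideal is central simple then the algebra is Azumaya. -/
theorem isAzumaya_of_fibres (K : ∀ I : Ideal R, I.IsMaximal → Type*)
    [∀ I hI, Field (K I hI)] [∀ I hI, Algebra R (K I hI)]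
    (hsurj : ∀ I hI, Function.Surjective (algebraMap R (K I hI)))
    (hker : ∀ I hI, RingHom.ker (algebraMap R (K I hI)) = I)
    (hcs : ∀ I hI, Algebra.IsCentral (K I hI) (K I hI ⊗[R] A) ∧ IsSimpleRing (K I hI ⊗[R] A)) :
    IsAzumaya R A := by
  let e : ∀ I hI, (R ⧸ I) ≃ₐ[R] K I hI := fun I hI =>
    (Ideal.quotientEquivAlgOfEq R (hker I hI).symm).trans
      (Ideal.quotientKerAlgEquivOfSurjective (f := Algebra.ofId R (K I hI)) (hsurj I hI))
  have hK : ∀ I hI, Function.Bijective (bc R A (K I hI)) := fun I hI => by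
    haveI := (hcs I hI).1
    haveI := (hcs I hI).2
    have := surjective_bc_of_mulLeftRight R A (K I hI)
      (bijective_of_centralSimple (K I hI) _).surjective
    exact ⟨bc_injective_of_surjective R A (K I hI) this, this⟩
  obtain ⟨n, x, g, hg⟩ := exists_dual_basis R A
  obtain ⟨hfin, hproj⟩ := end_finite_projective R A
  let m := (AlgHom.mulLeftRight R A).toLinearMap
  have hm : Function.Surjective m := by
    rw [← LinearMap.range_eq_top, ← Submodule.ker_mkQ (LinearMap.range m), LinearMap.ker_eq_top]
    ext f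
    refine eq_zero_of_forall_maximal R (C := Module.End R A ⧸ LinearMap.range m) (fun I hI c => ?_) _
    obtain ⟨f, rfl⟩ := Submodule.mkQ_surjective _ c
    obtain ⟨η, hη⟩ := (hK I hI).surjective ((1 : K I hI) ⊗ₜ[R] f)
    apply (TensorProduct.congr (e I hI).toLinearEquiv (LinearEquiv.refl R _)).injective
    rw [map_zero, TensorProduct.congr_tmul]
    simp only [AlgEquiv.toLinearEquiv_apply, map_one, LinearEquiv.refl_apply]
    have : ((LinearMap.range m).mkQ).baseChange (K I hI) (bc R A (K I hI) η) = 0 := by
      rw [← LinearMap.comp_apply, ← LinearMap.baseChange_comp, LinearMap.range_mkQ_comp,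
        LinearMap.baseChange_zero, LinearMap.zero_apply]
    rw [hη, LinearMap.baseChange_tmul] at this
    exact this
  obtain ⟨s, hs⟩ := Module.projective_lifting_property m LinearMap.id hm
  have hinj : Function.Injective m := by
    let p := LinearMap.id - s ∘ₗ m
    have hp : ∀ z, m (p z) = 0 := fun z => by
      have := LinearMap.congr_fun hs (m z)
      simp only [LinearMap.comp_apply, LinearMap.id_apply] at this
      simp [p, this]
    let q : A ⊗[R] Aᵐᵒᵖ →ₗ[R] LinearMap.ker m := p.codRestrict _ hp
    have hq : q ∘ₗ (LinearMap.ker m).subtype = LinearMap.id := LinearMap.ext fun z => Subtype.ext (by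
      change (z : A ⊗[R] Aᵐᵒᵖ) - s (m z) = z
      rw [LinearMap.mem_ker.mp z.2, map_zero, sub_zero])
    haveI : Module.Finite R (LinearMap.ker m) :=
      Module.Finite.of_surjective q fun z => ⟨z, LinearMap.congr_fun hq z⟩
    rw [← LinearMap.ker_eq_bot, eq_bot_iff]
    intro z hz
    letI : AddCommGroup (LinearMap.ker m) := Submodule.addCommGroup _
    have : (⟨z, hz⟩ : LinearMap.ker m) = 0 := by
      refine eq_zero_of_forall_maximal R (C := LinearMap.ker m) (fun I hI c => ?_) _
      apply (TensorProduct.congr (e I hI).toLinearEquiv (LinearEquiv.refl R _)).injective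
      rw [map_zero, TensorProduct.congr_tmul]
      simp only [AlgEquiv.toLinearEquiv_apply, map_one, LinearEquiv.refl_apply]
      have h0 : bc R A (K I hI) ((1 : K I hI) ⊗ₜ[R] (c : A ⊗[R] Aᵐᵒᵖ)) = 0 := by
        rw [LinearMap.baseChange_tmul, LinearMap.mem_ker.mp c.2, TensorProduct.tmul_zero]
      have h1 := (hK I hI).injective (h0.trans (map_zero _).symm)
      have := congrArg (q.baseChange (K I hI)) h1
      rwa [LinearMap.baseChange_tmul, map_zero,
        show q (c : A ⊗[R] Aᵐᵒᵖ) = c from LinearMap.congr_fun hq c] at this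
    exact congrArg Subtype.val this
  haveI : FaithfulSMul R A := by
    refine ⟨fun {r r'} h => ?_⟩
    let T : Ideal R := Ideal.span (Set.range fun p : Fin n × A => g p.1 p.2)
    have hT : T = ⊤ := by
      by_contra hne
      obtain ⟨I, hI, hle⟩ := Ideal.exists_le_maximal _ hne
      haveI := (hcs I hI).2
      obtain ⟨u, v, huv⟩ := exists_pair_ne (K I hI ⊗[R] A)
      have h0 : ∀ (k : K I hI) (a : A), k ⊗ₜ[R] a = 0 := fun k a => by
        rw [← hg a, TensorProduct.tmul_sum]
        refine Finset.sum_eq_zero fun i _ => ?_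
        have : algebraMap R (K I hI) (g i a) = 0 := RingHom.mem_ker.mp ((hker I hI).symm ▸
          hle (Ideal.subset_span ⟨(i, a), rfl⟩))
        rw [TensorProduct.tmul_smul, TensorProduct.smul_tmul', Algebra.smul_def, this, zero_mul,
          TensorProduct.zero_tmul]
      have h1 : ∀ w : K I hI ⊗[R] A, w = 0 := fun w => by
        induction w using TensorProduct.induction_on with
        | zero => rfl
        | tmul k a => exact h0 k a
        | add a b ha hb => rw [ha, hb, add_zero]
      exact huv ((h1 u).trans (h1 v).symm)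
    have key : ∀ t ∈ T, r * t = r' * t := by
      intro t ht
      induction ht using Submodule.span_induction with
      | mem y hy =>
        obtain ⟨⟨i, a⟩, rfl⟩ := hy
        simpa using congrArg (g i) (h a)
      | zero => simp
      | add a b _ _ ha hb => simp [mul_add, ha, hb]
      | smul c y _ hy => rw [smul_eq_mul, mul_left_comm, hy, mul_left_comm]
    simpa using key 1 (hT ▸ trivial)
  exact { bij := ⟨hinj, hm⟩ }

theorem isAzumaya_iff_fibres :
    IsAzumaya R A ↔ ∀ (p : Ideal R) [p.IsPrime],
      Algebra.IsCentral p.ResidueField (p.ResidueField ⊗[R] A) ∧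
        IsSimpleRing (p.ResidueField ⊗[R] A) := by
  constructor
  · intro _ p _
    haveI := nontrivial_baseChange R A p
    exact fibre_centralSimple R A p.ResidueField
  · intro h
    exact isAzumaya_of_fibres R A (fun I hI => haveI := hI.isPrime; I.ResidueField)
      (fun I hI => haveI := hI; I.algebraMap_residueField_surjective)
      (fun I hI => haveI := hI.isPrime; I.ker_algebraMap_residueField)
      (fun I hI => haveI := hI.isPrime; h I)

end

end Groth.Agent.Dix.Azumaya
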